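import Groth.Agent.Lib.CubeField.Slice
import Groth.Agent.Lib.CubeField.BaseChange
import Groth.Agent.Lib.CubeField.Product
import Mathlib.RingTheory.Flat.EquationalCriterion
import Mathlib.RingTheory.LocalRing.ResidueField.Basic

/-!
# Trivialisations of cocycles across square-zero thickenings killed by the maximal ideal
-/

set_option autoImplicit false
set_option linter.style.haveILetI false
set_option backward.isDefEq.respectTransparency false
set_option backward.isDefEq.respectTransparency.types false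

universe u

open CategoryTheory Limits AlgebraicGeometry TopologicalSpace Opposite

noncomputable section

namespace Groth.Agent.Cube10

open CubeField RigidRel

section ring

variable {A : Type u} [CommRing A]

/-- A finitely generated ideal killed by a maximal ideal has generators with coefficients in that ideal. -/
theorem exists_independent (J m : Ideal A) [m.IsMaximal] (hJ : J.FG) (hJm : m * J = ⊥) :
    ∃ (n : ℕ) (j : Fin n → A), Ideal.span (Set.range j) = J ∧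
      ∀ r : Fin n → A, ∑ l, r l * j l = 0 → ∀ l, r l ∈ m := by
  classical
  have hex : ∃ n, ∃ j : Fin n → A, Ideal.span (Set.range j) = J :=
    Submodule.fg_iff_exists_fin_generating_family.1 hJ
  obtain ⟨j, hj⟩ := Nat.find_spec hex
  refine ⟨_, j, hj, fun r hr l => ?_⟩
  by_contra hl
  obtain ⟨b, y, hy, hby⟩ := Ideal.IsMaximal.exists_inv (inferInstance : m.IsMaximal) hl
  have hyl : y * j l = 0 := by
    have hmem : y * j l ∈ m * J := Ideal.mul_mem_mul hy (hj ▸ Ideal.subset_span ⟨l, rfl⟩)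
    rwa [hJm, Ideal.mem_bot] at hmem
  have hrl : j l = -∑ l' ∈ Finset.univ.erase l, b * r l' * j l' := by
    rw [← Finset.add_sum_erase _ _ (Finset.mem_univ l)] at hr
    have h2 : ∑ l' ∈ Finset.univ.erase l, b * r l' * j l' = b * ∑ l' ∈ Finset.univ.erase l, r l' * j l' := by
      rw [Finset.mul_sum]
      exact Finset.sum_congr rfl fun l' _ => mul_assoc _ _ _
    rw [h2]
    linear_combination (-j l) * hby + hyl + b * hr
  have hpos : 0 < Nat.find hex := lt_of_le_of_lt (Nat.zero_le _) l.isLt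
  obtain ⟨n, hn⟩ : ∃ n, Nat.find hex = n + 1 := ⟨Nat.find hex - 1, by omega⟩
  refine Nat.find_min hex (show n < Nat.find hex by omega)
    ⟨fun x => j (Fin.cast hn.symm ((Fin.cast hn l).succAbove x)), le_antisymm ?_ ?_⟩
  · exact (Ideal.span_mono (by rintro _ ⟨x, rfl⟩; exact ⟨_, rfl⟩)).trans hj.le
  · refine hj.ge.trans (Ideal.span_le.2 ?_)
    have hne : ∀ l', l' ≠ l → j l' ∈
        Ideal.span (Set.range fun x => j (Fin.cast hn.symm ((Fin.cast hn l).succAbove x))) := fun l' h => by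
      obtain ⟨x, hx⟩ := Fin.exists_succAbove_eq (show Fin.cast hn l' ≠ Fin.cast hn l from
        fun e => h (Fin.cast_injective hn e))
      exact Ideal.subset_span ⟨x, by show j (Fin.cast hn.symm ((Fin.cast hn l).succAbove x)) = j l'; rw [hx]; rfl⟩
    rintro _ ⟨l', rfl⟩
    by_cases h : l' = l
    · subst h
      rw [hrl]
      refine neg_mem (sum_mem fun l'' hl'' => Ideal.mul_mem_left _ _ (hne l'' (Finset.ne_of_mem_erase hl'')))
    · exact hne l' h

variable {B : Type u} [CommRing B]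

theorem mul_eq_zero_of_mem_map (φ : A →+* B) {J : Ideal A} (hJ2 : J * J = ⊥) {x y : B} (hx : x ∈ J.map φ)
    (hy : y ∈ J.map φ) : x * y = 0 := by
  have h : x * y ∈ J.map φ * J.map φ := Ideal.mul_mem_mul hx hy
  rwa [← Ideal.map_mul, hJ2, Ideal.map_bot, Ideal.mem_bot] at h

theorem isUnit_of_mul_sub_one {v w x : B} (h : v * w = 1 + x) (hx : x * x = 0) : IsUnit v :=
  IsUnit.of_mul_eq_one (w * (1 - x)) (by linear_combination (1 - x) * h - hx)

theorem exists_sum_of_mem_map (φ : A →+* B) {n : ℕ} (j : Fin n → A) {x : B}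
    (hx : x ∈ (Ideal.span (Set.range j)).map φ) : ∃ a : Fin n → B, x = ∑ l, φ (j l) * a l := by
  rw [Ideal.map_span, ← Set.range_comp, Ideal.mem_span_range_iff_exists_fun] at hx
  obtain ⟨a, ha⟩ := hx
  exact ⟨a, by rw [← ha]; exact Finset.sum_congr rfl fun l _ => mul_comm _ _⟩

theorem mul_map_eq_zero (φ : A →+* B) {J m : Ideal A} (hJm : m * J = ⊥) {a : A} (ha : a ∈ J) {x : B}
    (hx : x ∈ m.map φ) : φ a * x = 0 := by
  have h : x * φ a ∈ m.map φ * J.map φ := Ideal.mul_mem_mul hx (Ideal.mem_map_of_mem φ ha)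
  rw [← Ideal.map_mul, hJm, Ideal.map_bot, Ideal.mem_bot] at h
  rwa [mul_comm]

end ring

variable {R : CommRingCat.{u}} {W T : Scheme.{u}} {ι : Type}

/-- The quotient map. -/
abbrev mkQ (I : Ideal R) : R ⟶ CommRingCat.of (R ⧸ I) := CommRingCat.ofHom (Ideal.Quotient.mk I)

theorem ker_mkQ (I : Ideal R) : RingHom.ker (mkQ I).hom = I := Ideal.mk_ker

theorem surjective_mkQ (I : Ideal R) : Function.Surjective (mkQ I).hom := Ideal.Quotient.mk_surjective

/-- Independence survives flat base change. -/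
theorem mem_map_of_sum_eq_zero (ξ : W ⟶ Spec R) [Flat ξ] {U : W.Opens} (hU : IsAffineOpen U) {m : Ideal R}
    {n : ℕ} (j : Fin n → R) (hj : ∀ r : Fin n → R, ∑ l, r l * j l = 0 → ∀ l, r l ∈ m) (a : Fin n → Γ(W, U))
    (h : ∑ l, ringMap ξ U (j l) * a l = 0) (l : Fin n) : a l ∈ m.map (ringMap ξ U).hom := by
  letI := (ringMap ξ U).hom.toAlgebra
  haveI : Module.Flat R Γ(W, U) := flat_ringMap ξ hU
  have h' : ∑ l, j l • a l = 0 := by
    rw [← h]
    exact Finset.sum_congr rfl fun l _ => Algebra.smul_def _ _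
  obtain ⟨κ, r, y, hy, hr⟩ := Module.Flat.isTrivialRelation_of_sum_smul_eq_zero h'
  rw [hy l]
  refine sum_mem fun t _ => ?_
  rw [Algebra.smul_def]
  refine Ideal.mul_mem_right _ _ (Ideal.mem_map_of_mem _ (hj (fun l => r l t) ?_ l))
  rw [← hr t]
  exact Finset.sum_congr rfl fun l _ => mul_comm _ _

/-- The coefficients of a coboundary on a slice are coboundaries modulo the maximal ideal. -/
theorem slice_coboundary {T₀ T₁ : Scheme.{u}} (ρ : T ⟶ Spec R) [Flat ρ] {J m : Ideal R} (hJ2 : J * J = ⊥)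
    (d : Coc T ι) (hA : ∀ i, IsAffineOpen (d.V i)) (hI : ∀ i i', IsAffineOpen (d.V i ⊓ d.V i'))
    (hcov : ⨆ i, d.V i = ⊤) (hd : d.Trivial)
    {p₀ : T₀ ⟶ T} {η₀ : T₀ ⟶ Spec (CommRingCat.of (R ⧸ J))}
    (h₀ : IsPullback p₀ η₀ ρ (Spec.map (mkQ J))) (hc : Function.Surjective (ringMap η₀ ⊤).hom)
    {p₁ : T₁ ⟶ T} {η₁ : T₁ ⟶ Spec (CommRingCat.of (R ⧸ m))}
    (h₁ : IsPullback p₁ η₁ ρ (Spec.map (mkQ m)))
    (v w : ∀ i, Γ(T, d.V i)) (hvw : ∀ i, v i * w i = 1) (hh : ∀ i i', Γ(T, d.V i ⊓ d.V i'))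
    (hhJ : ∀ i i', hh i i' ∈ J.map (ringMap ρ (d.V i ⊓ d.V i')).hom)
    (hrel : ∀ i i', (1 - hh i i') * rs inf_le_left (v i) = d.g i i' * rs inf_le_right (v i'))
    {n : ℕ} (j : Fin n → R) (hjJ : Ideal.span (Set.range j) = J)
    (hj : ∀ r : Fin n → R, ∑ l, r l * j l = 0 → ∀ l, r l ∈ m)
    (a : ∀ i i', Fin n → Γ(T, d.V i ⊓ d.V i'))
    (ha : ∀ i i', hh i i' = ∑ l, ringMap ρ (d.V i ⊓ d.V i') (j l) * a i i' l) (l : Fin n) :
    IsCoboundary (fun i => p₁ ⁻¹ᵁ d.V i) fun i i' => p₁.app (d.V i ⊓ d.V i') (a i i' l) := by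
  obtain ⟨τ, hτ, hτu⟩ := hd
  let t' : ∀ i, Γ(T, d.V i) := fun i => ((hτu i).unit⁻¹ : (Γ(T, d.V i))ˣ).val
  have htt : ∀ i, τ i * t' i = 1 := fun i => (hτu i).mul_val_inv
  have hz : ∀ (U : T.Opens), IsAffineOpen U → ∀ x : Γ(T, U), p₀.app U x = 0 ↔ x ∈ J.map (ringMap ρ U).hom :=
    fun U hU x => by rw [CubeField.app_eq_zero_iff _ h₀ hU, ker_mkQ]
  -- the two trivialisations differ by a constant on the closed subscheme
  have hglue : ∀ i i', rs inf_le_left (p₀.app (d.V i) (v i * t' i)) =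
      rs (inf_le_right : p₀ ⁻¹ᵁ d.V i ⊓ p₀ ⁻¹ᵁ d.V i' ≤ p₀ ⁻¹ᵁ d.V i') (p₀.app (d.V i') (v i' * t' i')) :=
    fun i i' => by
      have h0 : p₀.app (d.V i ⊓ d.V i')
          (rs inf_le_left (v i * t' i) - rs inf_le_right (v i' * t' i')) = 0 := by
        rw [hz _ (hI i i')]
        have e1 := hτ i i'
        have e2 := congrArg (rs (inf_le_left : d.V i ⊓ d.V i' ≤ _)) (htt i)
        have e3 := congrArg (rs (inf_le_right : d.V i ⊓ d.V i' ≤ _)) (htt i')
        simp only [map_mul, map_one] at e2 e3 ⊢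
        have e : rs inf_le_left (v i) * rs inf_le_left (t' i) - rs inf_le_right (v i') * rs inf_le_right (t' i') =
            hh i i' * rs inf_le_left (v i) * rs inf_le_left (t' i) := by
          linear_combination rs inf_le_left (t' i) * hrel i i' +
            rs inf_le_right (v i') * rs inf_le_right (t' i') * e2 +
            (-(rs inf_le_right (v i') * rs inf_le_right (t' i') * rs inf_le_left (t' i))) * e1 +
            (-(rs inf_le_left (t' i) * d.g i i' * rs inf_le_right (v i'))) * e3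
        rw [e]
        exact Ideal.mul_mem_right _ _ (Ideal.mul_mem_right _ _ (hhJ i i'))
      rw [map_sub, sub_eq_zero, app_rs, app_rs] at h0
      exact h0
  have hcov₀ : (⊤ : T₀.Opens) ≤ ⨆ i, p₀ ⁻¹ᵁ d.V i := by
    rw [← Scheme.Hom.preimage_iSup, hcov]
    exact le_rfl
  obtain ⟨s, hs⟩ := CubeField.exists_glue (fun i => p₀ ⁻¹ᵁ d.V i) hcov₀ (fun _ => le_top)
    (fun i => p₀.app (d.V i) (v i * t' i)) hglue
  obtain ⟨r₀, hr₀⟩ := hc s
  obtain ⟨r, hr⟩ := surjective_mkQ J r₀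
  let δ : ∀ i, Γ(T, d.V i) := fun i => v i - ringMap ρ (d.V i) r * τ i
  have hδ : ∀ i, δ i ∈ J.map (ringMap ρ (d.V i)).hom := fun i => by
    rw [← hz _ (hA i)]
    have e : p₀.app (d.V i) (ringMap ρ (d.V i) r) = p₀.app (d.V i) (v i * t' i) := by
      rw [app_ringMap _ h₀.toCommSq, show (mkQ J) r = r₀ from hr, ← hs i, ← hr₀, rs_ringMap]
    show p₀.app (d.V i) (v i - ringMap ρ (d.V i) r * τ i) = 0
    rw [map_sub, map_mul, e, ← map_mul, ← map_sub]
    have e2 : v i - v i * t' i * τ i = 0 := by linear_combination (-(v i)) * htt i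
    rw [e2, map_zero]
  choose b hb using fun i => exists_sum_of_mem_map (ringMap ρ (d.V i)).hom j (hjJ.symm ▸ hδ i)
  refine ⟨fun i => p₁.app (d.V i) (b i l * w i), fun i i' => ?_⟩
  have hmem : rs inf_le_left (b i l * w i) - rs inf_le_right (b i' l * w i') - a i i' l ∈
      m.map (ringMap ρ (d.V i ⊓ d.V i')).hom := by
    refine mem_map_of_sum_eq_zero ρ (hI i i') j hj
      (fun l' => rs inf_le_left (b i l' * w i) - rs inf_le_right (b i' l' * w i') - a i i' l') ?_ l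
    have hi : rs (inf_le_left : d.V i ⊓ d.V i' ≤ _) (δ i) * rs inf_le_left (w i) =
        ∑ l', ringMap ρ (d.V i ⊓ d.V i') (j l') * rs inf_le_left (b i l' * w i) := by
      rw [← map_mul, hb i, Finset.sum_mul, map_sum]
      refine Finset.sum_congr rfl fun l' _ => ?_
      rw [mul_assoc, map_mul, rs_ringMap]
    have hi' : rs (inf_le_right : d.V i ⊓ d.V i' ≤ _) (δ i') * rs inf_le_right (w i') =
        ∑ l', ringMap ρ (d.V i ⊓ d.V i') (j l') * rs inf_le_right (b i' l' * w i') := by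
      rw [← map_mul, hb i', Finset.sum_mul, map_sum]
      refine Finset.sum_congr rfl fun l' _ => ?_
      rw [mul_assoc, map_mul, rs_ringMap]
    simp only [mul_sub, Finset.sum_sub_distrib]
    rw [← hi, ← hi', ← ha]
    have hδ' : hh i i' * rs (inf_le_right : d.V i ⊓ d.V i' ≤ _) (δ i') = 0 := by
      refine mul_eq_zero_of_mem_map _ hJ2 (hhJ i i') ?_
      rw [hb i', map_sum]
      refine sum_mem fun l' _ => ?_
      rw [map_mul, rs_ringMap]
      exact Ideal.mul_mem_right _ _ (Ideal.mem_map_of_mem _ (hjJ ▸ Ideal.subset_span ⟨l', rfl⟩))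
    have e1 := hτ i i'
    have e2 := congrArg (rs (inf_le_left : d.V i ⊓ d.V i' ≤ _)) (hvw i)
    have e3 := congrArg (rs (inf_le_right : d.V i ⊓ d.V i' ≤ _)) (hvw i')
    simp only [map_mul, map_one] at e2 e3
    have e4 : rs (inf_le_left : d.V i ⊓ d.V i' ≤ _) (δ i) - d.g i i' * rs inf_le_right (δ i') =
        hh i i' * rs inf_le_left (v i) := by
      simp only [δ, map_sub, map_mul, rs_ringMap]
      linear_combination (-ringMap ρ (d.V i ⊓ d.V i') r) * e1 + hrel i i'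
    linear_combination rs inf_le_left (w i) * e4 + hh i i' * e2 + (-rs inf_le_right (w i')) * hδ' +
      (-(rs inf_le_right (δ i') * rs inf_le_left (w i) * d.g i i')) * e3 +
      (-(rs inf_le_right (δ i') * rs inf_le_right (w i') * rs inf_le_left (w i))) * hrel i i' +
      rs inf_le_right (δ i') * rs inf_le_right (w i') * (1 - hh i i') * e2
  have h0 : p₁.app (d.V i ⊓ d.V i')
      (rs inf_le_left (b i l * w i) - rs inf_le_right (b i' l * w i') - a i i' l) = 0 := by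
    rw [CubeField.app_eq_zero_iff _ h₁ (hI i i'), ker_mkQ]
    exact hmem
  rw [map_sub, map_sub, sub_eq_zero, app_rs, app_rs] at h0
  exact h0

/-- The data of a slice: a flat closed subfamily on which the cocycle is trivial. -/
structure SliceData {W₁ : Scheme.{u}} (ξ : W ⟶ Spec R) (c : Coc W ι) (J m : Ideal R) (f₁ : W₁ ⟶ W)
    {T₁ : Scheme.{u}} (x₁ : T₁ ⟶ W₁) where
  T : Scheme.{u}
  j : T ⟶ W
  flat : Flat (j ≫ ξ)
  aff : IsAffineHom j
  triv : (c.pull j).Trivial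
  const : Function.Surjective (ringMap (pullback.snd (j ≫ ξ) (Spec.map (mkQ J))) ⊤).hom
  p₁ : T₁ ⟶ T
  η₁ : T₁ ⟶ Spec (CommRingCat.of (R ⧸ m))
  sq : IsPullback p₁ η₁ (j ≫ ξ) (Spec.map (mkQ m))
  comm : p₁ ≫ j = x₁ ≫ f₁

/-- A trivialisation modulo `J` lifts if the special fibre has no cocycles invisible on both slices. -/
theorem trivial_of_deform (ξ : W ⟶ Spec R) [Flat ξ] [W.IsSeparated] {J m : Ideal R} [m.IsMaximal] (hJ : J.FG)
    (hJle : J ≤ m) (hJm : m * J = ⊥) (c : Coc W ι) (hV : ∀ i, IsAffineOpen (c.V i))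
    (hcov : ⨆ i, c.V i = ⊤) {W₀ W₁ : Scheme.{u}} {f₀ : W₀ ⟶ W} {η₀ : W₀ ⟶ Spec (CommRingCat.of (R ⧸ J))}
    (h₀ : IsPullback f₀ η₀ ξ (Spec.map (mkQ J))) (ht : (c.pull f₀).Trivial)
    {f₁ : W₁ ⟶ W} {η₁ : W₁ ⟶ Spec (CommRingCat.of (R ⧸ m))} (h₁ : IsPullback f₁ η₁ ξ (Spec.map (mkQ m)))
    {A B : Scheme.{u}} {x₁ : A ⟶ W₁} {y₁ : B ⟶ W₁} (SA : SliceData ξ c J m f₁ x₁)
    (SB : SliceData ξ c J m f₁ y₁)
    (H : ∀ f : ∀ i i', Γ(W₁, f₁ ⁻¹ᵁ c.V i ⊓ f₁ ⁻¹ᵁ c.V i'), IsCocycle (fun i => f₁ ⁻¹ᵁ c.V i) f →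
      IsCoboundary (fun i => x₁ ⁻¹ᵁ (f₁ ⁻¹ᵁ c.V i)) (fun i i' => x₁.app (f₁ ⁻¹ᵁ c.V i ⊓ f₁ ⁻¹ᵁ c.V i') (f i i')) →
      IsCoboundary (fun i => y₁ ⁻¹ᵁ (f₁ ⁻¹ᵁ c.V i)) (fun i i' => y₁.app (f₁ ⁻¹ᵁ c.V i ⊓ f₁ ⁻¹ᵁ c.V i') (f i i')) →
      IsCoboundary (fun i => f₁ ⁻¹ᵁ c.V i) f) :
    c.Trivial := by
  have hJ2 : J * J = ⊥ := le_bot_iff.1 ((Ideal.mul_mono_left hJle).trans hJm.le)
  obtain ⟨n, j, hjJ, hj⟩ := exists_independent J m hJ hJm
  have hI : ∀ i i', IsAffineOpen (c.V i ⊓ c.V i') := fun i i' => (hV i).inf (hV i')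
  have hz : ∀ (U : W.Opens), IsAffineOpen U → ∀ x : Γ(W, U), f₀.app U x = 0 ↔ x ∈ J.map (ringMap ξ U).hom :=
    fun U hU x => by rw [CubeField.app_eq_zero_iff _ h₀ hU, ker_mkQ]
  have hm : ∀ (U : W.Opens), IsAffineOpen U → ∀ x : Γ(W, U), f₁.app U x = 0 ↔ x ∈ m.map (ringMap ξ U).hom :=
    fun U hU x => by rw [CubeField.app_eq_zero_iff _ h₁ hU, ker_mkQ]
  -- lifts of the trivialisation
  obtain ⟨v₀, hv₀, hu₀⟩ := ht
  change ∀ i, Γ(W₀, f₀ ⁻¹ᵁ c.V i) at v₀
  choose v hv using fun i => CubeField.app_surjective _ h₀ (hV i) (surjective_mkQ J) (v₀ i)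
  have hvu : ∀ i, IsUnit (v i) := fun i => by
    obtain ⟨w', hw'⟩ := CubeField.app_surjective _ h₀ (hV i) (surjective_mkQ J)
      (((hu₀ i).unit⁻¹ : (Γ(W₀, f₀ ⁻¹ᵁ c.V i))ˣ).val)
    refine isUnit_of_mul_sub_one (x := v i * w' - 1) (add_sub_cancel 1 (v i * w')).symm ?_
    have hx : v i * w' - 1 ∈ J.map (ringMap ξ (c.V i)).hom := by
      rw [← hz _ (hV i), map_sub, map_mul, map_one, hv i, hw', (hu₀ i).mul_val_inv, sub_self]
    exact mul_eq_zero_of_mem_map _ hJ2 hx hx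
  let w : ∀ i, Γ(W, c.V i) := fun i => ((hvu i).unit⁻¹ : (Γ(W, c.V i))ˣ).val
  have hvw : ∀ i, v i * w i = 1 := fun i => (hvu i).mul_val_inv
  let h : ∀ i i', Γ(W, c.V i ⊓ c.V i') := fun i i' =>
    1 - c.g i i' * rs inf_le_right (v i') * rs inf_le_left (w i)
  have hhJ : ∀ i i', h i i' ∈ J.map (ringMap ξ (c.V i ⊓ c.V i')).hom := fun i i' => by
    rw [← hz _ (hI i i')]
    show f₀.app _ (1 - c.g i i' * rs inf_le_right (v i') * rs inf_le_left (w i)) = 0
    rw [map_sub, map_one, map_mul, map_mul, app_rs, app_rs, hv i']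
    have e : rs (f₀.preimage_mono (inf_le_left : c.V i ⊓ c.V i' ≤ c.V i)) (v₀ i) =
        f₀.app (c.V i ⊓ c.V i') (c.g i i') * rs (f₀.preimage_mono inf_le_right) (v₀ i') := hv₀ i i'
    have e2 : rs (f₀.preimage_mono (inf_le_left : c.V i ⊓ c.V i' ≤ c.V i)) (f₀.app (c.V i) (v i * w i)) = 1 := by
      rw [hvw i, map_one, map_one]
    rw [map_mul, map_mul, hv i] at e2
    rw [sub_eq_zero]
    linear_combination (-1 : Γ(W₀, f₀ ⁻¹ᵁ (c.V i ⊓ c.V i'))) * e2 +
      rs (f₀.preimage_mono inf_le_left) (f₀.app (c.V i) (w i)) * e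
  have hrel : ∀ i i', (1 - h i i') * rs inf_le_left (v i) = c.g i i' * rs inf_le_right (v i') := fun i i' => by
    have e := congrArg (rs (inf_le_left : c.V i ⊓ c.V i' ≤ _)) (hvw i)
    rw [map_mul, map_one] at e
    show (1 - (1 - c.g i i' * rs inf_le_right (v i') * rs inf_le_left (w i))) * rs inf_le_left (v i) = _
    linear_combination (c.g i i' * rs inf_le_right (v i')) * e
  have hcoc : IsCocycle c.V h := fun i i' k U hi hi' hk => by
    have e := c.comp i i' k U hi hi' hk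
    have e' := congrArg (rs hi') (hvw i')
    have hzero : rs (le_inf hi hi') (h i i') * rs (le_inf hi' hk) (h i' k) = 0 := by
      refine mul_eq_zero_of_mem_map (ringMap ξ U).hom hJ2 ?_ ?_
      · have h1 := Ideal.mem_map_of_mem (rs (le_inf hi hi')) (hhJ i i')
        rwa [Ideal.map_map, show (rs (le_inf hi hi')).comp (ringMap ξ (c.V i ⊓ c.V i')).hom = (ringMap ξ U).hom
          from RingHom.ext fun a => rs_ringMap (le_inf hi hi') a] at h1
      · have h1 := Ideal.mem_map_of_mem (rs (le_inf hi' hk)) (hhJ i' k)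
        rwa [Ideal.map_map, show (rs (le_inf hi' hk)).comp (ringMap ξ (c.V i' ⊓ c.V k)).hom = (ringMap ξ U).hom
          from RingHom.ext fun a => rs_ringMap (le_inf hi' hk) a] at h1
    simp only [h, map_sub, map_mul, map_one, rs_rs] at hzero e' ⊢
    linear_combination hzero + (-(rs hk (v k) * rs hi (w i))) * e -
      (rs (le_inf hi hi') (c.g i i') * rs (le_inf hi' hk) (c.g i' k) * rs hk (v k) * rs hi (w i)) * e'
  choose a ha using fun i i' => exists_sum_of_mem_map (ringMap ξ (c.V i ⊓ c.V i')).hom j (hjJ.symm ▸ hhJ i i')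
  -- the coefficients on the special fibre
  have hfcoc : ∀ l, IsCocycle (fun i => f₁ ⁻¹ᵁ c.V i) fun i i' => f₁.app (c.V i ⊓ c.V i') (a i i' l) := fun l => by
    intro i i' k U hi hi' hk
    let U₀ := c.V i ⊓ c.V i' ⊓ c.V k
    have hU₀ : IsAffineOpen U₀ := (hI i i').inf (hV k)
    have h1 : U₀ ≤ c.V i ⊓ c.V i' := inf_le_left
    have h2 : U₀ ≤ c.V i' ⊓ c.V k := le_inf (inf_le_left.trans inf_le_right) inf_le_right
    have h3 : U₀ ≤ c.V i ⊓ c.V k := le_inf (inf_le_left.trans inf_le_left) inf_le_right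
    have hmem := mem_map_of_sum_eq_zero ξ hU₀ j hj
      (fun l' => rs h1 (a i i' l') + rs h2 (a i' k l') - rs h3 (a i k l')) ?_ l
    · rw [← hm _ hU₀, map_sub, map_add, sub_eq_zero, app_rs, app_rs, app_rs] at hmem
      have e := congrArg (rs (show U ≤ f₁ ⁻¹ᵁ U₀ from le_inf (le_inf hi hi') hk)) hmem
      rw [map_add] at e
      erw [rs_rs, rs_rs, rs_rs] at e
      exact e
    · have e := hcoc i i' k U₀ (inf_le_left.trans inf_le_left) (inf_le_left.trans inf_le_right) inf_le_right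
      rw [ha, ha, ha, map_sum, map_sum, map_sum] at e
      simp only [map_mul, rs_ringMap] at e
      simp only [mul_sub, mul_add, Finset.sum_sub_distrib, Finset.sum_add_distrib]
      exact sub_eq_zero.2 e
  have hsl : ∀ {D : Scheme.{u}} {x : D ⟶ W₁} (S : SliceData ξ c J m f₁ x) (l : Fin n),
      IsCoboundary (fun i => x ⁻¹ᵁ (f₁ ⁻¹ᵁ c.V i))
        fun i i' => x.app (f₁ ⁻¹ᵁ c.V i ⊓ f₁ ⁻¹ᵁ c.V i') (f₁.app (c.V i ⊓ c.V i') (a i i' l)) := fun {D x} S l => by
    haveI := S.flat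
    haveI := S.aff
    have hρ : ∀ (U : W.Opens) (q : R), S.j.app U (ringMap ξ U q) = ringMap (S.j ≫ ξ) (S.j ⁻¹ᵁ U) q :=
      fun U q => app_ringMap (g := 𝟙 R) (η := S.j ≫ ξ) ⟨by rw [Spec.map_id, Category.comp_id]⟩ U q
    obtain ⟨b, hb⟩ := slice_coboundary (S.j ≫ ξ) hJ2 (c.pull S.j) (fun i => (hV i).preimage S.j)
      (fun i i' => (hI i i').preimage S.j)
      (by show ⨆ i, S.j ⁻¹ᵁ c.V i = ⊤; rw [← Scheme.Hom.preimage_iSup, hcov]; rfl)
      S.triv (IsPullback.of_hasPullback _ _) S.const S.sq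
      (fun i => S.j.app (c.V i) (v i)) (fun i => S.j.app (c.V i) (w i))
      (fun i => ((map_mul (S.j.app (c.V i)).hom _ _).symm.trans ((congrArg _ (hvw i)).trans (map_one _))))
      (fun i i' => S.j.app (c.V i ⊓ c.V i') (h i i'))
      (fun i i' => by
        show S.j.app _ (h i i') ∈ J.map (ringMap (S.j ≫ ξ) (S.j ⁻¹ᵁ (c.V i ⊓ c.V i'))).hom
        rw [ha i i', map_sum]
        refine sum_mem fun l' _ => ?_
        rw [map_mul, hρ]
        exact Ideal.mul_mem_right _ _ (Ideal.mem_map_of_mem _ (hjJ ▸ Ideal.subset_span ⟨l', rfl⟩)))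
      (fun i i' => by
        have e := congrArg (S.j.app (c.V i ⊓ c.V i')) (hrel i i')
        rw [map_mul, map_mul, map_sub, map_one, app_rs, app_rs] at e
        exact e)
      j hjJ hj (fun i i' l' => S.j.app (c.V i ⊓ c.V i') (a i i' l'))
      (fun i i' => by
        show S.j.app _ (h i i') = ∑ l', ringMap (S.j ≫ ξ) (S.j ⁻¹ᵁ (c.V i ⊓ c.V i')) (j l') * _
        rw [ha i i', map_sum]
        exact Finset.sum_congr rfl fun l' _ => by rw [map_mul, hρ]) l
    change ∀ i, Γ(D, S.p₁ ⁻¹ᵁ (S.j ⁻¹ᵁ c.V i)) at b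
    have hop : ∀ U : W.Opens, x ⁻¹ᵁ (f₁ ⁻¹ᵁ U) = S.p₁ ⁻¹ᵁ (S.j ⁻¹ᵁ U) := fun U =>
      congrArg (fun φ : D ⟶ W => φ ⁻¹ᵁ U) S.comm.symm
    refine ⟨fun i => rs (hop (c.V i)).le (b i), fun i i' => ?_⟩
    have e := congrArg (rs (hop (c.V i ⊓ c.V i')).le) (hb i i')
    rw [map_sub] at e
    erw [rs_rs, rs_rs] at e
    erw [rs_rs, rs_rs]
    refine e.trans ((rs_app_app_of_eq' S.p₁ S.j x f₁ S.comm _ le_rfl _).trans ?_)
    exact rs_self _ _
  choose ub hub using fun l => H _ (hfcoc l) (hsl SA l) (hsl SB l)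
  choose ul hul using fun l i => CubeField.app_surjective _ h₁ (hV i) (surjective_mkQ m) (ub l i)
  let U : ∀ i, Γ(W, c.V i) := fun i => ∑ l, ringMap ξ (c.V i) (j l) * ul l i
  have hU : ∀ i i', h i i' = rs inf_le_left (U i) - rs inf_le_right (U i') := fun i i' => by
    have e : ∀ l, f₁.app (c.V i ⊓ c.V i') (rs inf_le_left (ul l i) - rs inf_le_right (ul l i') - a i i' l) = 0 :=
      fun l => by
        rw [map_sub, map_sub, app_rs, app_rs, hul, hul, sub_eq_zero]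
        exact hub l i i'
    simp only [U, map_sum, map_mul, rs_ringMap]
    rw [ha, ← Finset.sum_sub_distrib, ← sub_eq_zero, ← Finset.sum_sub_distrib]
    refine Finset.sum_eq_zero fun l _ => ?_
    rw [← mul_sub, ← mul_sub]
    refine mul_map_eq_zero _ hJm (hjJ ▸ Ideal.subset_span ⟨l, rfl⟩) ?_
    rw [← neg_sub, neg_mem_iff]
    exact (hm _ (hI i i') _).1 (e l)
  have hUJ : ∀ i, U i ∈ J.map (ringMap ξ (c.V i)).hom := fun i =>
    sum_mem fun l _ => Ideal.mul_mem_right _ _ (Ideal.mem_map_of_mem _ (hjJ ▸ Ideal.subset_span ⟨l, rfl⟩))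
  refine ⟨fun i => v i * (1 - U i), fun i i' => ?_, fun i => (hvu i).mul ?_⟩
  · have hUU : h i i' * rs (inf_le_right : c.V i ⊓ c.V i' ≤ _) (U i') = 0 := by
      refine mul_eq_zero_of_mem_map _ hJ2 (hhJ i i') ?_
      simp only [U, map_sum, map_mul, rs_ringMap]
      exact sum_mem fun l _ => Ideal.mul_mem_right _ _ (Ideal.mem_map_of_mem _ (hjJ ▸ Ideal.subset_span ⟨l, rfl⟩))
    simp only [map_mul, map_sub, map_one]
    linear_combination (1 - rs inf_le_right (U i')) * hrel i i' + rs inf_le_left (v i) * hU i i' -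
      rs inf_le_left (v i) * hUU
  · exact isUnit_of_mul_sub_one (w := 1 + U i) (x := 0)
      (by linear_combination (-1 : Γ(W, c.V i)) * mul_eq_zero_of_mem_map _ hJ2 (hUJ i) (hUJ i)) (mul_zero _)

end Groth.Agent.Cube10
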