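import Groth.Agent.Lib.LimH13.KerFG
import Groth.Agent.Lib.Cube10.Deform
import Groth.Agent.Lib.SchBasic.Basic
import Mathlib.RingTheory.Ideal.Pure
import Mathlib.AlgebraicGeometry.Morphisms.UniversallyOpen
import Mathlib.RingTheory.Nakayama

/-!
# An immersion is open if it lifts small square-zero extensions of local rings
-/

set_option autoImplicit false
set_option linter.style.haveILetI false
set_option backward.isDefEq.respectTransparency false
set_option backward.isDefEq.respectTransparency.types false

universe u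

open CategoryTheory Limits AlgebraicGeometry TopologicalSpace

noncomputable section

namespace Groth.Agent.Cube10

/-- Maps from local schemes lift along `c` across ideals killed by the maximal ideal. -/
def SmallLift {Q Z : Scheme.{u}} (c : Q ⟶ Z) : Prop :=
  ∀ (R : CommRingCat.{u}) [IsLocalRing R] (J : Ideal R), J.FG → J ≤ IsLocalRing.maximalIdeal R →
    IsLocalRing.maximalIdeal R * J = ⊥ →
    ∀ u : Spec R ⟶ Z, (∃ l, l ≫ c = Spec.map (mkQ J) ≫ u) → ∃ l, l ≫ c = u

theorem flat_of_smallLift_spec {A : CommRingCat.{u}} {Q : Scheme.{u}} (c : Q ⟶ Spec A) [IsClosedImmersion c]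
    [LocallyOfFinitePresentation c] (H : SmallLift c) : Flat c := by
  obtain ⟨I, e, he⟩ := IsClosedImmersion.Spec_iff.1 ‹IsClosedImmersion c›
  haveI hfp : LocallyOfFinitePresentation (Spec.map (CommRingCat.ofHom (Ideal.Quotient.mk I))) := by
    rw [show Spec.map (CommRingCat.ofHom (Ideal.Quotient.mk I)) = e.inv ≫ c by rw [he, Iso.inv_hom_id_assoc]]
    infer_instance
  have hI : I.FG := by
    have h := LimH13.ker_fg_of_surjective _ Ideal.Quotient.mk_surjective
      ((HasRingHomProperty.Spec_iff (P := @LocallyOfFinitePresentation)).1 hfp)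
    simpa only [CommRingCat.hom_ofHom, Ideal.mk_ker] using h
  have key : ∀ p : Ideal A, ∀ (_ : p.IsPrime), I ≤ p →
      I.map (algebraMap A (Localization.AtPrime p)) = ⊥ := fun p hp hle => by
    let B := Localization.AtPrime p
    let m := IsLocalRing.maximalIdeal B
    let K : Ideal B := I.map (algebraMap A B)
    have hKm : K ≤ m := Ideal.map_le_iff_le_comap.2 (hle.trans (le_of_eq
      (IsLocalization.AtPrime.comap_maximalIdeal B p).symm))
    let q : B →+* B ⧸ m * K := Ideal.Quotient.mk (m * K)
    haveI : Nontrivial (B ⧸ m * K) := Ideal.Quotient.nontrivial_iff.2 fun h =>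
      (IsLocalRing.maximalIdeal.isMaximal B).ne_top (top_le_iff.1 (h.ge.trans Ideal.mul_le_left))
    haveI : IsLocalRing (CommRingCat.of (B ⧸ m * K)) := IsLocalRing.of_surjective' q Ideal.Quotient.mk_surjective
    have hmax : IsLocalRing.maximalIdeal (CommRingCat.of (B ⧸ m * K)) = m.map q :=
      ((Ideal.map_eq_top_or_isMaximal_of_surjective q Ideal.Quotient.mk_surjective
        (IsLocalRing.maximalIdeal.isMaximal B)).resolve_left (fun h => by
          have h' := congrArg (Ideal.comap q) h
          rw [Ideal.comap_top, Ideal.comap_map_of_surjective q Ideal.Quotient.mk_surjective, ← RingHom.ker_eq_comap_bot,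
            Ideal.mk_ker, sup_eq_left.2 Ideal.mul_le_left] at h'
          exact (IsLocalRing.maximalIdeal.isMaximal B).ne_top h') |> IsLocalRing.eq_maximalIdeal).symm
    let J : Ideal (CommRingCat.of (B ⧸ m * K)) := K.map q
    let u : Spec (CommRingCat.of (B ⧸ m * K)) ⟶ Spec A := Spec.map (CommRingCat.ofHom (q.comp (algebraMap A B)))
    let φ : (A ⧸ I) →+* (B ⧸ m * K) ⧸ J := Ideal.Quotient.lift I
      ((Ideal.Quotient.mk J).comp (q.comp (algebraMap A B))) fun a ha =>
        Ideal.Quotient.eq_zero_iff_mem.2 (Ideal.mem_map_of_mem q (Ideal.mem_map_of_mem _ ha))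
    obtain ⟨l, hl⟩ := H (CommRingCat.of (B ⧸ m * K)) J ((hI.map _).map _)
      (by rw [hmax]; exact Ideal.map_mono hKm)
      (by rw [hmax, ← Ideal.map_mul]; exact Ideal.map_quotient_self _) u
      ⟨Spec.map (CommRingCat.ofHom φ) ≫ e.inv, by
        rw [he, Category.assoc, Iso.inv_hom_id_assoc]
        simp only [u, mkQ, ← Spec.map_comp]
        rfl⟩
    obtain ⟨g, hg⟩ : ∃ g, Spec.map g = l ≫ e.hom := ⟨_, Spec.map_preimage _⟩
    have h2 : CommRingCat.ofHom (q.comp (algebraMap A B)) = CommRingCat.ofHom (Ideal.Quotient.mk I) ≫ g := by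
      apply Spec.map_injective
      rw [Spec.map_comp, hg, Category.assoc, ← he, hl]
    have hK : K ≤ m * K := Ideal.map_le_iff_le_comap.2 fun a ha => by
      refine Ideal.mem_comap.2 ((Ideal.Quotient.eq_zero_iff_mem (I := m * K)).1 ?_)
      have h3 := congr($h2 a)
      refine h3.trans ?_
      show g.hom (Ideal.Quotient.mk I a) = 0
      rw [Ideal.Quotient.eq_zero_iff_mem.2 ha, map_zero]
    exact Submodule.eq_bot_of_le_smul_of_le_jacobson_bot m K (hI.map _) hK
      (IsLocalRing.maximalIdeal_le_jacobson _)
  have hidem : IsIdempotentElem I := le_antisymm Ideal.mul_le_left fun x hx => by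
    suffices hK : Submodule.colon (I * I) {x} = (⊤ : Ideal A) by
      have h1 : (1 : A) ∈ Submodule.colon (I * I) {x} := hK ▸ Submodule.mem_top
      simpa using Submodule.mem_colon_singleton.1 h1
    by_contra hne
    obtain ⟨p, hp, hle⟩ := Ideal.exists_le_maximal _ hne
    have hIp : I ≤ p := fun a ha => hle (Submodule.mem_colon_singleton.2 (Ideal.mul_mem_mul ha hx))
    have h0 : algebraMap A (Localization.AtPrime p) x = 0 := by
      have h := Ideal.mem_map_of_mem (algebraMap A (Localization.AtPrime p)) hx
      rwa [key p hp.isPrime hIp, Ideal.mem_bot] at h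
    obtain ⟨⟨t, ht⟩, htx⟩ := (IsLocalization.map_eq_zero_iff p.primeCompl (Localization.AtPrime p) x).1 h0
    refine ht (hle (Submodule.mem_colon_singleton.2 ?_))
    show t * x ∈ I * I
    rw [show t * x = 0 from htx]
    exact zero_mem _
  haveI : Flat (Spec.map (CommRingCat.ofHom (Ideal.Quotient.mk I))) := by
    refine (HasRingHomProperty.Spec_iff (P := @Flat)).2 ?_
    rw [CommRingCat.hom_ofHom]
    show @Module.Flat A (A ⧸ I) _ _ _
    exact Ideal.Pure.of_isIdempotentElem hI hidem
  rw [he]
  infer_instance

/-- An immersion of finite presentation with small lifts is open. -/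
theorem isOpenImmersion_of_smallLift {Q Z : Scheme.{u}} (j : Q ⟶ Z) [IsImmersion j]
    [LocallyOfFinitePresentation j] (H : SmallLift j) : IsOpenImmersion j := by
  haveI : LocallyOfFinitePresentation (j.liftCoborder) := by
    haveI : LocallyOfFinitePresentation (j.liftCoborder ≫ j.coborderRange.ι) := by
      rw [Scheme.Hom.liftCoborder_ι]; infer_instance
    exact SchBasic.locallyOfFinitePresentation_of_comp j.liftCoborder j.coborderRange.ι
  haveI : Flat j.liftCoborder := by
    refine IsZariskiLocalAtTarget.of_openCover (P := @Flat) j.coborderRange.toScheme.affineCover fun i => ?_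
    let a := j.coborderRange.toScheme.affineCover.f i
    have h := flat_of_smallLift_spec (pullback.snd j.liftCoborder a) fun R _ J hJ hJle hJm u hu => by
      obtain ⟨l₀, hl₀⟩ := hu
      obtain ⟨l, hl⟩ := H R J hJ hJle hJm (u ≫ a ≫ j.coborderRange.ι)
        ⟨l₀ ≫ pullback.fst _ _, by
          have e : l₀ ≫ pullback.fst j.liftCoborder a ≫ j.liftCoborder = (l₀ ≫ pullback.snd _ _) ≫ a := by
            rw [pullback.condition, Category.assoc]
          calc (l₀ ≫ pullback.fst _ _) ≫ j
              = (l₀ ≫ pullback.fst _ _ ≫ j.liftCoborder) ≫ j.coborderRange.ι := by simp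
            _ = _ := by rw [e, hl₀]; simp only [Category.assoc]⟩
      have hla : l ≫ j.liftCoborder = u ≫ a := by
        rw [← cancel_mono j.coborderRange.ι]
        simp only [Category.assoc, Scheme.Hom.liftCoborder_ι]
        exact hl
      exact ⟨pullback.lift l u hla, pullback.lift_snd _ _ _⟩
    exact h
  haveI : Flat j := by rw [← Scheme.Hom.liftCoborder_ι j]; infer_instance
  haveI : UniversallyOpen j := inferInstance
  rw [IsOpenImmersion.iff_isIso_stalkMap]
  refine ⟨⟨j.isEmbedding, j.isOpenMap.isOpen_range⟩, fun x => ?_⟩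
  rw [ConcreteCategory.isIso_iff_bijective]
  refine ⟨?_, j.stalkMap_surjective x⟩
  have hflat : (j.stalkMap x).hom.Flat := (Flat.iff_flat_stalkMap j).1 inferInstance x
  letI := (j.stalkMap x).hom.toAlgebra
  haveI : Module.Flat (Z.presheaf.stalk (j x)) (Q.presheaf.stalk x) := hflat
  haveI : IsLocalHom (algebraMap (Z.presheaf.stalk (j x)) (Q.presheaf.stalk x)) :=
    inferInstanceAs (IsLocalHom (j.stalkMap x).hom)
  haveI := Module.FaithfullyFlat.of_flat_of_isLocalHom (A := Z.presheaf.stalk (j x)) (B := Q.presheaf.stalk x)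
  exact FaithfulSMul.algebraMap_injective (Z.presheaf.stalk (j x)) (Q.presheaf.stalk x)

end Groth.Agent.Cube10
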