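import Groth.Agent.Lib.Cube10.Lift
import Groth.Agent.Lib.RankLoc10.Desc
import Groth.Agent.Lib.GrpOmega.Sections
import Groth.Agent.Lib.AlgEquiv22.Closed
import Groth.Agent.Lib.TensorMod.Dual
import Groth.Agent.Lib.CBC10.Point
import Groth.Agent.Lib.CBC10.GenRows
import Groth.Agent.Lib.CubeField.Product

/-!
# The theorem of the cube relative to a base
-/

set_option autoImplicit false
set_option linter.style.haveILetI false
set_option backward.isDefEq.respectTransparency false
set_option backward.isDefEq.respectTransparency.types false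

universe u

open CategoryTheory Limits AlgebraicGeometry TopologicalSpace

noncomputable section

namespace Groth.Agent.Cube10

open CubeField RigidRel

variable {Z B B' : Scheme.{u}}

/-- Base change of a morphism over `Z`. -/
abbrev bc {q : B ⟶ Z} {q' : B' ⟶ Z} (r : B ⟶ B') (hr : r ≫ q' = q) {T : Scheme.{u}} (t : T ⟶ Z) :
    pullback q t ⟶ pullback q' t :=
  pullback.lift (pullback.fst q t ≫ r) (pullback.snd q t) (by rw [Category.assoc, hr, pullback.condition])

/-- Restriction along the parameters. -/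
abbrev step (q : B ⟶ Z) {T T' : Scheme.{u}} (a : T' ⟶ T) (t : T ⟶ Z) : pullback q (a ≫ t) ⟶ pullback q t :=
  pullback.lift (pullback.fst q (a ≫ t)) (pullback.snd q (a ≫ t) ≫ a)
    (by rw [Category.assoc, pullback.condition])

theorem isPullback_step (q : B ⟶ Z) {T T' : Scheme.{u}} (a : T' ⟶ T) (t : T ⟶ Z) :
    IsPullback (step q a t) (pullback.snd q (a ≫ t)) (pullback.snd q t) a :=
  IsPullback.of_right (by rw [pullback.lift_fst]; exact IsPullback.of_hasPullback q (a ≫ t))
    (pullback.lift_snd _ _ _) (IsPullback.of_hasPullback q t)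

/-- A fibred square stays one after base change. -/
theorem isPullback_bc {XZ YZ T : Scheme.{u}} {qX : XZ ⟶ Z} {qY : YZ ⟶ Z} {rX : B ⟶ XZ} {rY : B ⟶ YZ}
    (h : IsPullback rX rY qX qY) {q : B ⟶ Z} (hX : rX ≫ qX = q) (hY : rY ≫ qY = q) (t : T ⟶ Z) :
    IsPullback (bc rX hX t) (bc rY hY t) (pullback.snd qX t) (pullback.snd qY t) := by
  have hB : IsPullback (bc rY hY t) (pullback.fst q t) (pullback.fst qY t) rY := by
    refine IsPullback.of_right ?_ (pullback.lift_fst _ _ _) (IsPullback.of_hasPullback qY t).flip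
    rw [pullback.lift_snd, hY]
    exact (IsPullback.of_hasPullback q t).flip
  have h2 := hB.flip.paste_horiz h
  refine IsPullback.of_right ?_ (by rw [pullback.lift_snd, pullback.lift_snd]) (IsPullback.of_hasPullback qX t)
  rw [← pullback.condition, pullback.lift_fst]
  exact h2

theorem geometricallyIntegral_comp {X Y S : Scheme.{u}} (f : X ⟶ Y) (g : Y ⟶ S) [GeometricallyIntegral f]
    [GeometricallyIntegral g] [Flat f] [LocallyOfFinitePresentation f] [LocallyOfFiniteType g] :
    GeometricallyIntegral (f ≫ g) := by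
  refine ⟨fun K _ x W p₁ p₂ hW => ?_⟩
  haveI : IsLocallyNoetherian (pullback g x) := LocallyOfFiniteType.isLocallyNoetherian (pullback.snd g x)
  haveI : IsIntegral (pullback g x) := GeometricallyIntegral.isIntegral_of_subsingleton (pullback.snd g x)
  haveI : IsIntegral (pullback f (pullback.fst g x)) := inferInstance
  let e := (pullbackRightPullbackFstIso g x f) ≪≫ hW.isoPullback.symm
  haveI : Nonempty W := ⟨e.hom (Nonempty.some inferInstance)⟩
  exact isIntegral_of_isOpenImmersion e.inv

theorem univAppIso_of_geometrically {X S : Scheme.{u}} (f : X ⟶ S) [IsProper f] [Flat f]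
    [LocallyOfFinitePresentation f] [GeometricallyIntegral f] : RankLoc10.UnivAppIso f := by
  intro X' T g' f' t h U
  haveI : IsProper f' := MorphismProperty.of_isPullback h inferInstance
  haveI : Flat f' := MorphismProperty.of_isPullback h inferInstance
  haveI : LocallyOfFinitePresentation f' := MorphismProperty.of_isPullback h inferInstance
  haveI : GeometricallyIntegral f' := MorphismProperty.of_isPullback h inferInstance
  haveI := CubeField.geometricallyConnected_of_irreducible f'
  exact GrpOmega.bijective_app_of_geometrically f' U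

theorem surjective_ringMap {X : Scheme.{u}} {R : CommRingCat.{u}} (ξ : X ⟶ Spec R) [IsProper ξ] [Flat ξ]
    [LocallyOfFinitePresentation ξ] [GeometricallyIntegral ξ] : Function.Surjective (ringMap ξ ⊤).hom := by
  haveI := CubeField.geometricallyConnected_of_irreducible ξ
  exact (bijective_ringMap ξ (constFibres_of_geometrically ξ)).2

/-- On an integral proper fibre, trivial means sections of the module and of its inverse. -/
theorem fibre_trivial_iff {X S : Scheme.{u}} (f : X ⟶ S) [IsProper f] (y : S) [IsIntegral (f.fiber y)]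
    {L D : X.Modules} (hL : PicF.IsInvertible L) (hD : PicF.IsInvertible D)
    (e : CohB1.tensorMod L D ≅ Coh.structureModule X) :
    IsTriv ((Scheme.Modules.pullback (f.fiberι y)).obj L) ↔
      Nontrivial (CohIII.fiberH f L y 0) ∧ Nontrivial (CohIII.fiberH f D y 0) := by
  haveI : IsProper (f.fiberToSpecResidueField y) :=
    MorphismProperty.of_isPullback (P := @IsProper)
      (IsPullback.of_hasPullback f (S.fromSpecResidueField y)) inferInstance
  exact AlgEquiv22.isTriv_iff_sections (k := S.residueField y) (f.fiberToSpecResidueField y)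
    (PicLoc.isInvertible_pullback _ hL) (PicLoc.isInvertible_pullback _ hD)
    ⟨(M2.pullTensorIso (f.fiberι y) L D).symm ≪≫ (Scheme.Modules.pullback (f.fiberι y)).mapIso e ≪≫
      Twist.pullbackUnitIso _⟩

/-- Where fibres of an invertible module have no sections is open. -/
theorem isClosed_nontrivial_fiber {X S : Scheme.{u}} (f : X ⟶ S) [IsProper f] [Flat f]
    [LocallyOfFinitePresentation f] {L : X.Modules} (hL : PicF.IsInvertible L) :
    IsClosed {y : S | Nontrivial (CohIII.fiberH f L y 0)} := by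
  have hlf := M2.isFinLocFree_of_isInvertible hL
  haveI : Coh.IsQCoh L := M1.isFP_isQCoh (M1.isFP_of_isFinLocFree hlf)
  haveI : HasInjectiveResolutions X.Modules := CohFound.hasInjectiveResolutions_modules X
  rw [← isOpen_compl_iff, isOpen_iff_forall_mem_open]
  intro y hy
  obtain ⟨V, -, M, hyV⟩ := CBC10.exists_model_at f L (M1.isFP_of_isFinLocFree hlf)
    (DPerf.isFlatOver_of_isFlat f (KFlat.Sch.isFlat_of_isFinLocFree hlf)) (U := ⊤) (s := y) trivial
  obtain ⟨V', -, -, hyV', -, -, -, hz⟩ := M.exists_zero_nhd inferInstance hyV 0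
    (not_nontrivial_iff_subsingleton.1 hy)
  exact ⟨V', fun z hz' => not_nontrivial_iff_subsingleton.2 (hz z hz'), V'.isOpen, hyV'⟩

/-- Triviality over a slice after base change. -/
theorem isTriv_bc {q : B ⟶ Z} {qS : B' ⟶ Z} (i : B' ⟶ B) (hi : i ≫ q = qS) {L : B.Modules}
    (hS : IsTriv ((Scheme.Modules.pullback i).obj L)) {T : Scheme.{u}} (t : T ⟶ Z) :
    IsTriv ((Scheme.Modules.pullback (bc i hi t)).obj
      ((Scheme.Modules.pullback (pullback.fst q t)).obj L)) :=
  (isTriv_comp_iff _ _ _).2 ((isTriv_of_eq (pullback.lift_fst _ _ _).symm)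
    ((isTriv_comp_iff _ _ _).1 (hS.pullback (pullback.fst qS t))))

variable {XZ YZ : Scheme.{u}} (qX : XZ ⟶ Z) (qY : YZ ⟶ Z) {rX : B ⟶ XZ} {rY : B ⟶ YZ}
  (h : IsPullback rX rY qX qY) (a : Z ⟶ XZ) (ha : a ≫ qX = 𝟙 Z) (b : Z ⟶ YZ) (hb : b ≫ qY = 𝟙 Z)
  [Flat qX] [IsProper qX] [LocallyOfFinitePresentation qX] [GeometricallyIntegral qX]
  [Flat qY] [IsProper qY] [LocallyOfFinitePresentation qY] [GeometricallyIntegral qY]
  (iA : YZ ⟶ B) (hiA₁ : iA ≫ rX = qY ≫ a) (hiA₂ : iA ≫ rY = 𝟙 YZ)
  (iB : XZ ⟶ B) (hiB₁ : iB ≫ rX = 𝟙 XZ) (hiB₂ : iB ≫ rY = qX ≫ b)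
  (L : B.Modules) (hL : PicF.IsInvertible L)
  (hA : IsTriv ((Scheme.Modules.pullback iA).obj L)) (hB : IsTriv ((Scheme.Modules.pullback iB).obj L))

/-- The module is trivial over the parameters `t`. -/
def Trv {T : Scheme.{u}} (t : T ⟶ Z) : Prop :=
  IsTriv ((Scheme.Modules.pullback (pullback.fst (rX ≫ qX) t)).obj L)

include h ha hb hiA₁ hiA₂ hiB₁ hiB₂ hL hA hB in
set_option maxHeartbeats 1000000 in
/-- Triviality extends across small thickenings. -/
theorem trv_of_small (R : CommRingCat.{u}) [IsLocalRing R] (J : Ideal R) (hJ : J.FG)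
    (hJle : J ≤ IsLocalRing.maximalIdeal R) (hJm : IsLocalRing.maximalIdeal R * J = ⊥) (t : Spec R ⟶ Z)
    (h0 : Trv qX (rX := rX) L (Spec.map (mkQ J) ≫ t)) : Trv qX (rX := rX) L t := by
  set q := rX ≫ qX with hq
  set m := IsLocalRing.maximalIdeal R
  letI : Field ((R : Type u) ⧸ m) := Ideal.Quotient.field m
  haveI : IsProper rX := MorphismProperty.of_isPullback h.flip inferInstance
  haveI : Flat rX := MorphismProperty.of_isPullback h.flip inferInstance
  haveI : LocallyOfFinitePresentation rX := MorphismProperty.of_isPullback h.flip inferInstance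
  haveI : IsProper q := inferInstanceAs (IsProper (rX ≫ qX))
  haveI : Flat q := inferInstanceAs (Flat (rX ≫ qX))
  have hAq : iA ≫ q = qY := by rw [hq, reassoc_of% hiA₁, ha, Category.comp_id]
  have hBq : iB ≫ q = qX := by rw [hq, reassoc_of% hiB₁]
  have hXq : rX ≫ qX = q := rfl
  have hYq : rY ≫ qY = q := h.w.symm
  let ξ := pullback.snd q t
  haveI : CompactSpace ↥(pullback q t) := QuasiCompact.compactSpace_of_compactSpace ξ
  haveI : (pullback q t).IsSeparated := ⟨by rw [← terminal.comp_from ξ]; infer_instance⟩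
  let M := (Scheme.Modules.pullback (pullback.fst q t)).obj L
  obtain ⟨n, c, hV, hcov, ⟨τ⟩⟩ := CubeField.exists_triv M (PicLoc.isInvertible_pullback _ hL)
  refine (τ.iso_iff hcov).2 ?_
  -- the closed subfamily
  let t₀ := Spec.map (mkQ J) ≫ t
  have ht : (c.pull (step q (Spec.map (mkQ J)) t)).Trivial := by
    refine (τ.pull_iso_iff hcov _).1 ((isTriv_comp_iff _ _ _).2 ?_)
    exact (isTriv_of_eq (pullback.lift_fst _ _ _).symm) h0
  let t₁ := Spec.map (mkQ m) ≫ t
  -- slices
  have htA : (c.pull (bc iA hAq t)).Trivial :=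
    (τ.pull_iso_iff hcov _).1 (isTriv_bc iA hAq hA t)
  have htB : (c.pull (bc iB hBq t)).Trivial :=
    (τ.pull_iso_iff hcov _).1 (isTriv_bc iB hBq hB t)
  have hjA : bc iA hAq t ≫ ξ = pullback.snd qY t := pullback.lift_snd _ _ _
  have hjB : bc iB hBq t ≫ ξ = pullback.snd qX t := pullback.lift_snd _ _ _
  haveI : IsSeparated (bc rY hYq t) := by
    haveI : IsSeparated (bc rY hYq t ≫ pullback.snd qY t) := by rw [pullback.lift_snd]; infer_instance
    exact IsSeparated.of_comp (bc rY hYq t) (pullback.snd qY t)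
  haveI : IsSeparated (bc rX hXq t) := by
    haveI : IsSeparated (bc rX hXq t ≫ pullback.snd qX t) := by rw [pullback.lift_snd]; infer_instance
    exact IsSeparated.of_comp (bc rX hXq t) (pullback.snd qX t)
  let SA : SliceData ξ c J m (step q (Spec.map (mkQ m)) t) (bc iA hAq t₁) :=
    { T := pullback qY t
      j := bc iA hAq t
      flat := by rw [hjA]; infer_instance
      aff := isAffineHom_of_section _ (bc rY hYq t) (pullback.hom_ext (by simp [hiA₂]) (by simp))
      triv := htA
      const := by rw [hjA]; exact surjective_ringMap _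
      p₁ := step qY (Spec.map (mkQ m)) t
      η₁ := pullback.snd qY t₁
      sq := by rw [hjA]; exact isPullback_step qY _ t
      comm := pullback.hom_ext (by simp [t₁]) (by simp [t₁]) }
  let SB : SliceData ξ c J m (step q (Spec.map (mkQ m)) t) (bc iB hBq t₁) :=
    { T := pullback qX t
      j := bc iB hBq t
      flat := by rw [hjB]; infer_instance
      aff := isAffineHom_of_section _ (bc rX hXq t) (pullback.hom_ext (by simp [hiB₁]) (by simp))
      triv := htB
      const := by rw [hjB]; exact surjective_ringMap _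
      p₁ := step qX (Spec.map (mkQ m)) t
      η₁ := pullback.snd qX t₁
      sq := by rw [hjB]; exact isPullback_step qX _ t
      comm := pullback.hom_ext (by simp [t₁]) (by simp [t₁]) }
  refine trivial_of_deform ξ hJ hJle hJm c hV hcov (isPullback_step q _ t) ht (isPullback_step q _ t) SA SB
    fun f hf h₁ h₂ => ?_
  -- the special fibre is a product
  let pX : pullback qX t₁ ⟶ Spec (CommRingCat.of ((R : Type u) ⧸ m)) := pullback.snd qX t₁
  let pY : pullback qY t₁ ⟶ Spec (CommRingCat.of ((R : Type u) ⧸ m)) := pullback.snd qY t₁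
  haveI : CompactSpace ↥(pullback qX t₁) := QuasiCompact.compactSpace_of_compactSpace pX
  haveI : CompactSpace ↥(pullback qY t₁) := QuasiCompact.compactSpace_of_compactSpace pY
  have hk := isPullback_bc h hXq hYq t₁
  refine isCoboundary_of_slices pX pY (bc rX hXq t₁) (bc rY hYq t₁) hk (surjective_ringMap pY)
    (fun U hU => univAppIso_of_geometrically pX _ _ _ hk U)
    (bc iA hAq t₁) (pullback.hom_ext (by simp [hiA₂]) (by simp))
    (pullback.lift (t₁ ≫ a) (𝟙 _) (by simp [ha])) (pullback.hom_ext ?_ (by simp [pY]))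
    (bc iB hBq t₁) (pullback.hom_ext (by simp [hiB₁]) (by simp))
    (pullback.lift (t₁ ≫ b) (𝟙 _) (by simp [hb])) (pullback.hom_ext ?_ (by simp [pX]))
    (pullback.lift_snd _ _ _) _ f hf (by rw [← Scheme.Hom.preimage_iSup, hcov]; rfl) h₁ h₂
  · simp [pY, hiA₁, pullback.condition_assoc]
  · simp [pX, hiB₂, pullback.condition_assoc]

include h ha hb hiA₁ hiA₂ hiB₁ hiB₂ hL hA hB in
/-- The fibres on which the module is trivial form a clopen set over which it is trivial. -/
theorem exists_clopen_triv :
    ∃ W : Z.Opens, IsClosed (W : Set Z) ∧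
      (∀ z, z ∈ W ↔ IsTriv ((Scheme.Modules.pullback ((rX ≫ qX).fiberι z)).obj L)) ∧
      IsTriv ((Scheme.Modules.pullback ((rX ≫ qX) ⁻¹ᵁ W).ι).obj L) := by
  haveI : IsProper rX := MorphismProperty.of_isPullback h.flip inferInstance
  haveI : Flat rX := MorphismProperty.of_isPullback h.flip inferInstance
  haveI : LocallyOfFinitePresentation rX := MorphismProperty.of_isPullback h.flip inferInstance
  haveI : GeometricallyIntegral rX := MorphismProperty.of_isPullback h.flip inferInstance
  haveI : GeometricallyIntegral (rX ≫ qX) := geometricallyIntegral_comp rX qX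
  set q := rX ≫ qX with hq
  haveI : IsProper q := inferInstanceAs (IsProper (rX ≫ qX))
  haveI : Flat q := inferInstanceAs (Flat (rX ≫ qX))
  haveI : LocallyOfFinitePresentation q := inferInstanceAs (LocallyOfFinitePresentation (rX ≫ qX))
  have hAq : iA ≫ q = qY := by rw [hq, reassoc_of% hiA₁, ha, Category.comp_id]
  -- the section over `(a, b)`
  let σ : Z ⟶ B := b ≫ iA
  have hσ : σ ≫ q = 𝟙 Z := by rw [Category.assoc, hAq, hb]
  have hσL : IsTriv ((Scheme.Modules.pullback σ).obj L) := (isTriv_comp_iff _ _ _).1 (hA.pullback b)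
  obtain ⟨Q, j, hj, hjfp, -, hu⟩ := RankLoc10.exists_desc_immersion (M2.isFinLocFree_of_isInvertible hL)
    (univAppIso_of_geometrically q)
  have hfac : ∀ {T : Scheme.{u}} (t : T ⟶ Z), (∃ l, l ≫ j = t) ↔ Trv qX (rX := rX) L t := fun {T} t => by
    rw [hu T t]
    constructor
    · rintro ⟨N, -, ⟨e⟩⟩
      let s : T ⟶ pullback q t := pullback.lift (t ≫ σ) (𝟙 T) (by rw [Category.assoc, hσ, Category.comp_id, Category.id_comp])
      have hM : IsTriv ((Scheme.Modules.pullback s).obj ((Scheme.Modules.pullback (pullback.fst q t)).obj L)) :=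
        (isTriv_comp_iff _ _ _).2 ((isTriv_of_eq (pullback.lift_fst _ _ _).symm)
          ((isTriv_comp_iff _ _ _).1 (hσL.pullback t)))
      obtain ⟨eM⟩ := hM
      have eN : N ≅ Coh.structureModule T := ((Scheme.Modules.pullbackId T).app N).symm ≪≫
        ((Scheme.Modules.pullbackCongr (pullback.lift_snd (t ≫ σ) (𝟙 T) _)).app N).symm ≪≫
        ((Scheme.Modules.pullbackComp s (pullback.snd q t)).app N).symm ≪≫
        (Scheme.Modules.pullback s).mapIso e ≪≫ eM
      exact ⟨e.symm ≪≫ (Scheme.Modules.pullback _).mapIso eN ≪≫ Twist.pullbackUnitIso _⟩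
    · rintro ⟨e⟩
      exact ⟨Coh.structureModule T, M2.isFinLocFree_of_isInvertible (PicLoc.isInvertible_structureModule T),
        ⟨Twist.pullbackUnitIso _ ≪≫ e.symm⟩⟩
  haveI : IsOpenImmersion j := isOpenImmersion_of_smallLift j fun R _ J hJ hJle hJm t ht =>
    (hfac t).2 (trv_of_small qX qY h a ha b hb iA hiA₁ hiA₂ iB hiB₁ hiB₂ L hL hA hB R J hJ hJle hJm t
      ((hfac _).1 ht))
  have hmem : ∀ z, z ∈ j.opensRange ↔ IsTriv ((Scheme.Modules.pullback (q.fiberι z)).obj L) := fun z => by
    constructor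
    · intro hz
      refine (hfac (Z.fromSpecResidueField z)).1 ⟨IsOpenImmersion.lift j _ ?_, IsOpenImmersion.lift_fac _ _ _⟩
      rintro _ ⟨x, rfl⟩
      rw [Z.fromSpecResidueField_apply]
      exact hz
    · intro hz
      obtain ⟨l, hl⟩ := (hfac (Z.fromSpecResidueField z)).2 hz
      obtain ⟨x⟩ : Nonempty (Spec (Z.residueField z)) := inferInstanceAs (Nonempty (PrimeSpectrum (Z.residueField z)))
      exact ⟨l x, by rw [← Scheme.Hom.comp_apply, hl, Z.fromSpecResidueField_apply]⟩
  refine ⟨j.opensRange, ?_, hmem, ?_⟩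
  · obtain ⟨D, hD, ⟨e⟩⟩ := M2.exists_inverse hL
    have hset : (j.opensRange : Set Z) = {z | Nontrivial (CohIII.fiberH q L z 0)} ∩
        {z | Nontrivial (CohIII.fiberH q D z 0)} := Set.ext fun z =>
      (hmem z).trans (fibre_trivial_iff q z hL hD e)
    rw [hset]
    exact (isClosed_nontrivial_fiber q hL).inter (isClosed_nontrivial_fiber q hD)
  · have hW : Trv qX (rX := rX) L j.opensRange.ι :=
      (hfac _).1 ⟨IsOpenImmersion.lift j _ (by rw [Scheme.Opens.range_ι]; rfl), IsOpenImmersion.lift_fac _ _ _⟩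
    have hp := (isPullback_morphismRestrict q j.opensRange).flip
    exact (isTriv_of_eq hp.isoPullback_hom_fst) ((isTriv_comp_iff _ _ _).1 (hW.pullback hp.isoPullback.hom))

end Groth.Agent.Cube10
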