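import Groth.Agent.Lib.Cube10.Locus

/-!
# The theorem of the cube over a base, on slices given by sections
-/

set_option autoImplicit false
set_option linter.style.haveILetI false
set_option backward.isDefEq.respectTransparency false
set_option backward.isDefEq.respectTransparency.types false

universe u

open CategoryTheory Limits AlgebraicGeometry TopologicalSpace

noncomputable section

namespace Groth.Agent.Cube10

open CubeField

theorem exists_clopen_triv_eq {Z B XZ YZ : Scheme.{u}} (qX : XZ ⟶ Z) (qY : YZ ⟶ Z) {rX : B ⟶ XZ} {rY : B ⟶ YZ}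
    (h : IsPullback rX rY qX qY) [Flat qX] [IsProper qX] [LocallyOfFinitePresentation qX] [GeometricallyIntegral qX]
    [Flat qY] [IsProper qY] [LocallyOfFinitePresentation qY] [GeometricallyIntegral qY]
    (a : Z ⟶ XZ) (ha : a ≫ qX = 𝟙 Z) (b : Z ⟶ YZ) (hb : b ≫ qY = 𝟙 Z)
    (iA : YZ ⟶ B) (hiA₁ : iA ≫ rX = qY ≫ a) (hiA₂ : iA ≫ rY = 𝟙 YZ)
    (iB : XZ ⟶ B) (hiB₁ : iB ≫ rX = 𝟙 XZ) (hiB₂ : iB ≫ rY = qX ≫ b)
    {q : B ⟶ Z} (hq : rX ≫ qX = q) (L : B.Modules) (hL : PicF.IsInvertible L)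
    (hA : IsTriv ((Scheme.Modules.pullback iA).obj L)) (hB : IsTriv ((Scheme.Modules.pullback iB).obj L)) :
    ∃ W : Z.Opens, IsClosed (W : Set Z) ∧
      (∀ z, z ∈ W ↔ IsTriv ((Scheme.Modules.pullback (q.fiberι z)).obj L)) ∧
      IsTriv ((Scheme.Modules.pullback (q ⁻¹ᵁ W).ι).obj L) := by
  subst hq
  exact exists_clopen_triv qX qY h a ha b hb iA hiA₁ hiA₂ iB hiB₁ hiB₂ L hL hA hB

/-- The fibrewise trivial locus on `X ×_S Y ×_S Z` is clopen and the module is trivial over it. -/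
theorem cube_rel {S X Y Z : Scheme.{u}} (pX : X ⟶ S) (pY : Y ⟶ S) (pZ : Z ⟶ S)
    [Flat pX] [IsProper pX] [LocallyOfFinitePresentation pX] [GeometricallyIntegral pX]
    [Flat pY] [IsProper pY] [LocallyOfFinitePresentation pY] [GeometricallyIntegral pY]
    (x : S ⟶ X) (hx : x ≫ pX = 𝟙 S) (y : S ⟶ Y) (hy : y ≫ pY = 𝟙 S)
    (i : Y ⟶ pullback pX pY) (hi₁ : i ≫ pullback.fst pX pY = pY ≫ x) (hi₂ : i ≫ pullback.snd pX pY = 𝟙 Y)
    (i' : X ⟶ pullback pX pY) (hi₁' : i' ≫ pullback.fst pX pY = 𝟙 X) (hi₂' : i' ≫ pullback.snd pX pY = pX ≫ y)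
    (L : (pullback (pullback.fst pX pY ≫ pX) pZ).Modules) (hL : PicF.IsInvertible L)
    {w₁ w₁' w₂ w₂'}
    (h₁ : IsTriv ((Scheme.Modules.pullback (pullback.map (i ≫ (pullback.fst pX pY ≫ pX)) pZ
      (pullback.fst pX pY ≫ pX) pZ i (𝟙 Z) (𝟙 S) w₁ w₁')).obj L))
    (h₂ : IsTriv ((Scheme.Modules.pullback (pullback.map (i' ≫ (pullback.fst pX pY ≫ pX)) pZ
      (pullback.fst pX pY ≫ pX) pZ i' (𝟙 Z) (𝟙 S) w₂ w₂')).obj L)) :
    ∃ W : Z.Opens, IsClosed (W : Set Z) ∧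
      (∀ z, z ∈ W ↔ IsTriv ((Scheme.Modules.pullback
        ((pullback.snd (pullback.fst pX pY ≫ pX) pZ).fiberι z)).obj L)) ∧
      IsTriv ((Scheme.Modules.pullback ((pullback.snd (pullback.fst pX pY ≫ pX) pZ) ⁻¹ᵁ W).ι).obj L) := by
  have hPY : pullback.snd pX pY ≫ pY = pullback.fst pX pY ≫ pX := pullback.condition.symm
  have hi : i ≫ pullback.fst pX pY ≫ pX = pY := by rw [reassoc_of% hi₁, hx, Category.comp_id]
  have hi' : i' ≫ pullback.fst pX pY ≫ pX = pX := by rw [reassoc_of% hi₁']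
  refine exists_clopen_triv_eq (pullback.snd pX pZ) (pullback.snd pY pZ)
    (isPullback_bc (IsPullback.of_hasPullback pX pY) rfl hPY pZ)
    (pullback.lift (pZ ≫ x) (𝟙 Z) (by simp [hx])) (pullback.lift_snd _ _ _)
    (pullback.lift (pZ ≫ y) (𝟙 Z) (by simp [hy])) (pullback.lift_snd _ _ _)
    (bc i hi pZ) ?_ ?_ (bc i' hi' pZ) ?_ ?_ (pullback.lift_snd _ _ _) L hL ?_ ?_
  · exact pullback.hom_ext (by simp [hi₁, pullback.condition_assoc]) (by simp)
  · exact pullback.hom_ext (by simp [hi₂]) (by simp)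
  · exact pullback.hom_ext (by simp [hi₁']) (by simp)
  · exact pullback.hom_ext (by simp [hi₂', pullback.condition_assoc]) (by simp)
  · refine isTriv_of_eq ?_ ((isTriv_comp_iff
      (pullback.lift (pullback.fst pY pZ) (pullback.snd pY pZ) (by rw [hi, pullback.condition])) _ L).1
      (h₁.pullback _))
    exact pullback.hom_ext (by simp) (by simp)
  · refine isTriv_of_eq ?_ ((isTriv_comp_iff
      (pullback.lift (pullback.fst pX pZ) (pullback.snd pX pZ) (by rw [hi', pullback.condition])) _ L).1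
      (h₂.pullback _))
    exact pullback.hom_ext (by simp) (by simp)

end Groth.Agent.Cube10
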