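import Groth.Agent.Lib.Cube10.Locus
import Groth.Agent.Lib.Cube10.Lift
import Groth.Agent.Lib.RankLoc10.Desc
import Groth.Agent.Lib.GrpOmega.Sections
import Groth.Agent.Lib.AlgEquiv22.Closed
import Groth.Agent.Lib.TensorMod.Dual
import Groth.Agent.Lib.CBC10.Point
import Groth.Agent.Lib.CBC10.GenRows
import Groth.Agent.Lib.CubeField.Product

/-!
# Openness of the trivial locus on a product, for `O = f_*O` universally
-/

set_option autoImplicit false
set_option linter.style.haveILetI false
set_option backward.isDefEq.respectTransparency false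
set_option backward.isDefEq.respectTransparency.types false

universe u

open CategoryTheory Limits AlgebraicGeometry TopologicalSpace

noncomputable section

namespace Groth.Agent.Cube10

open CubeField RigidRel

variable {Z B B' : Scheme.{u}}

variable {Z B B' : Scheme.{u}}

/-- `O = p_* O` on the base gives surjectivity on global functions. -/
theorem surjective_ringMap_of_appIso {X : Scheme.{u}} {R : CommRingCat.{u}} {ξ : X ⟶ Spec R}
    (h : RankLoc10.AppIso ξ) : Function.Surjective (ringMap ξ ⊤).hom := by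
  intro a
  obtain ⟨b, hb⟩ := (h ⊤).2 a
  refine ⟨(Scheme.ΓSpecIso R).hom b, ?_⟩
  show (ξ.app ⊤ ≫ _).hom (((Scheme.ΓSpecIso R).hom ≫ (Scheme.ΓSpecIso R).inv).hom b) = a
  rw [Iso.hom_inv_id]
  show rs _ (ξ.app ⊤ b) = a
  rw [hb]
  exact rs_self _ a

theorem surjective_ringMap_of_univAppIso {X : Scheme.{u}} {R R' : CommRingCat.{u}} {ξ : X ⟶ Spec R}
    (h : RankLoc10.UnivAppIso ξ) (φ : R ⟶ R') :
    Function.Surjective (ringMap (pullback.snd ξ (Spec.map φ)) ⊤).hom :=
  surjective_ringMap_of_appIso (h _ _ _ (IsPullback.of_hasPullback ξ (Spec.map φ)))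

theorem univAppIso_comp {X Y S : Scheme.{u}} {p : X ⟶ Y} {q : Y ⟶ S} (hp : RankLoc10.UnivAppIso p)
    (hq : RankLoc10.UnivAppIso q) : RankLoc10.UnivAppIso (p ≫ q) := by
  intro X' T g' f' t h
  let a : X' ⟶ pullback q t := pullback.lift (g' ≫ p) f' (by rw [Category.assoc]; exact h.w)
  have ha : a ≫ pullback.snd q t = f' := pullback.lift_snd _ _ _
  have hsq : IsPullback g' a p (pullback.fst q t) := IsPullback.of_bot
    (by rw [ha]; exact h) (pullback.lift_fst _ _ _).symm (IsPullback.of_hasPullback q t)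
  intro U
  rw [← ha, Scheme.Hom.comp_app]
  exact (hp _ _ _ hsq _).comp (hq _ _ _ (IsPullback.of_hasPullback q t) U)

variable {XZ YZ : Scheme.{u}} (qX : XZ ⟶ Z) (qY : YZ ⟶ Z) {rX : B ⟶ XZ} {rY : B ⟶ YZ}
  (h : IsPullback rX rY qX qY) (a : Z ⟶ XZ) (ha : a ≫ qX = 𝟙 Z) (b : Z ⟶ YZ) (hb : b ≫ qY = 𝟙 Z)
  [Flat qX] [IsProper qX] [LocallyOfFinitePresentation qX]
  [Flat qY] [IsProper qY] [LocallyOfFinitePresentation qY] (hOX : RankLoc10.UnivAppIso qX) (hOY : RankLoc10.UnivAppIso qY)
  (iA : YZ ⟶ B) (hiA₁ : iA ≫ rX = qY ≫ a) (hiA₂ : iA ≫ rY = 𝟙 YZ)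
  (iB : XZ ⟶ B) (hiB₁ : iB ≫ rX = 𝟙 XZ) (hiB₂ : iB ≫ rY = qX ≫ b)
  (L : B.Modules) (hL : PicF.IsInvertible L)
  (hA : IsTriv ((Scheme.Modules.pullback iA).obj L)) (hB : IsTriv ((Scheme.Modules.pullback iB).obj L))

include h ha hb hiA₁ hiA₂ hiB₁ hiB₂ hL hA hB hOX hOY in
set_option linter.unusedSectionVars false in
set_option maxHeartbeats 1000000 in
/-- Triviality extends across small thickenings. -/
theorem trv_of_small_of_univAppIso (R : CommRingCat.{u}) [IsLocalRing R] (J : Ideal R) (hJ : J.FG)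
    (hJle : J ≤ IsLocalRing.maximalIdeal R) (hJm : IsLocalRing.maximalIdeal R * J = ⊥) (t : Spec R ⟶ Z)
    (h0 : Trv qX (rX := rX) L (Spec.map (mkQ J) ≫ t)) : Trv qX (rX := rX) L t := by
  set q := rX ≫ qX with hq
  set m := IsLocalRing.maximalIdeal R
  letI : Field ((R : Type u) ⧸ m) := Ideal.Quotient.field m
  haveI : IsProper rX := MorphismProperty.of_isPullback h.flip inferInstance
  haveI : Flat rX := MorphismProperty.of_isPullback h.flip inferInstance
  haveI : LocallyOfFinitePresentation rX := MorphismProperty.of_isPullback h.flip inferInstance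
  haveI : IsProper q := inferInstanceAs (IsProper (rX ≫ qX))
  haveI : Flat q := inferInstanceAs (Flat (rX ≫ qX))
  have hAq : iA ≫ q = qY := by rw [hq, reassoc_of% hiA₁, ha, Category.comp_id]
  have hBq : iB ≫ q = qX := by rw [hq, reassoc_of% hiB₁]
  have hXq : rX ≫ qX = q := rfl
  have hYq : rY ≫ qY = q := h.w.symm
  let ξ := pullback.snd q t
  haveI : CompactSpace ↥(pullback q t) := QuasiCompact.compactSpace_of_compactSpace ξ
  haveI : (pullback q t).IsSeparated := ⟨by rw [← terminal.comp_from ξ]; infer_instance⟩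
  let M := (Scheme.Modules.pullback (pullback.fst q t)).obj L
  obtain ⟨n, c, hV, hcov, ⟨τ⟩⟩ := CubeField.exists_triv M (PicLoc.isInvertible_pullback _ hL)
  refine (τ.iso_iff hcov).2 ?_
  -- the closed subfamily
  let t₀ := Spec.map (mkQ J) ≫ t
  have ht : (c.pull (step q (Spec.map (mkQ J)) t)).Trivial := by
    refine (τ.pull_iso_iff hcov _).1 ((isTriv_comp_iff _ _ _).2 ?_)
    exact (isTriv_of_eq (pullback.lift_fst _ _ _).symm) h0
  let t₁ := Spec.map (mkQ m) ≫ t
  -- slices
  have htA : (c.pull (bc iA hAq t)).Trivial :=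
    (τ.pull_iso_iff hcov _).1 (isTriv_bc iA hAq hA t)
  have htB : (c.pull (bc iB hBq t)).Trivial :=
    (τ.pull_iso_iff hcov _).1 (isTriv_bc iB hBq hB t)
  have hjA : bc iA hAq t ≫ ξ = pullback.snd qY t := pullback.lift_snd _ _ _
  have hjB : bc iB hBq t ≫ ξ = pullback.snd qX t := pullback.lift_snd _ _ _
  haveI : IsSeparated (bc rY hYq t) := by
    haveI : IsSeparated (bc rY hYq t ≫ pullback.snd qY t) := by rw [pullback.lift_snd]; infer_instance
    exact IsSeparated.of_comp (bc rY hYq t) (pullback.snd qY t)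
  haveI : IsSeparated (bc rX hXq t) := by
    haveI : IsSeparated (bc rX hXq t ≫ pullback.snd qX t) := by rw [pullback.lift_snd]; infer_instance
    exact IsSeparated.of_comp (bc rX hXq t) (pullback.snd qX t)
  let SA : SliceData ξ c J m (step q (Spec.map (mkQ m)) t) (bc iA hAq t₁) :=
    { T := pullback qY t
      j := bc iA hAq t
      flat := by rw [hjA]; infer_instance
      aff := isAffineHom_of_section _ (bc rY hYq t) (pullback.hom_ext (by simp [hiA₂]) (by simp))
      triv := htA
      const := surjective_ringMap_of_univAppIso (hOY.baseChange (by rw [hjA]; exact IsPullback.of_hasPullback qY t)) _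
      p₁ := step qY (Spec.map (mkQ m)) t
      η₁ := pullback.snd qY t₁
      sq := by rw [hjA]; exact isPullback_step qY _ t
      comm := pullback.hom_ext (by simp [t₁]) (by simp [t₁]) }
  let SB : SliceData ξ c J m (step q (Spec.map (mkQ m)) t) (bc iB hBq t₁) :=
    { T := pullback qX t
      j := bc iB hBq t
      flat := by rw [hjB]; infer_instance
      aff := isAffineHom_of_section _ (bc rX hXq t) (pullback.hom_ext (by simp [hiB₁]) (by simp))
      triv := htB
      const := surjective_ringMap_of_univAppIso (hOX.baseChange (by rw [hjB]; exact IsPullback.of_hasPullback qX t)) _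
      p₁ := step qX (Spec.map (mkQ m)) t
      η₁ := pullback.snd qX t₁
      sq := by rw [hjB]; exact isPullback_step qX _ t
      comm := pullback.hom_ext (by simp [t₁]) (by simp [t₁]) }
  refine trivial_of_deform ξ hJ hJle hJm c hV hcov (isPullback_step q _ t) ht (isPullback_step q _ t) SA SB
    fun f hf h₁ h₂ => ?_
  -- the special fibre is a product
  let pX : pullback qX t₁ ⟶ Spec (CommRingCat.of ((R : Type u) ⧸ m)) := pullback.snd qX t₁
  let pY : pullback qY t₁ ⟶ Spec (CommRingCat.of ((R : Type u) ⧸ m)) := pullback.snd qY t₁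
  haveI : CompactSpace ↥(pullback qX t₁) := QuasiCompact.compactSpace_of_compactSpace pX
  haveI : CompactSpace ↥(pullback qY t₁) := QuasiCompact.compactSpace_of_compactSpace pY
  have hk := isPullback_bc h hXq hYq t₁
  refine isCoboundary_of_slices pX pY (bc rX hXq t₁) (bc rY hYq t₁) hk (surjective_ringMap_of_appIso (hOY _ pY t₁ (IsPullback.of_hasPullback qY t₁)))
    (fun U hU => hOX.baseChange (IsPullback.of_hasPullback qX t₁) _ _ _ hk U)
    (bc iA hAq t₁) (pullback.hom_ext (by simp [hiA₂]) (by simp))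
    (pullback.lift (t₁ ≫ a) (𝟙 _) (by simp [ha])) (pullback.hom_ext ?_ (by simp [pY]))
    (bc iB hBq t₁) (pullback.hom_ext (by simp [hiB₁]) (by simp))
    (pullback.lift (t₁ ≫ b) (𝟙 _) (by simp [hb])) (pullback.hom_ext ?_ (by simp [pX]))
    (pullback.lift_snd _ _ _) _ f hf (by rw [← Scheme.Hom.preimage_iSup, hcov]; rfl) h₁ h₂
  · simp [pY, hiA₁, pullback.condition_assoc]
  · simp [pX, hiB₂, pullback.condition_assoc]

include h ha hb hiA₁ hiA₂ hiB₁ hiB₂ hL hA hB hOX hOY in
/-- The fibres on which the module is trivial form an open set over which it is trivial. -/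
theorem exists_open_triv :
    ∃ W : Z.Opens,
      (∀ z, IsTriv ((Scheme.Modules.pullback ((rX ≫ qX).fiberι z)).obj L) → z ∈ W) ∧
      IsTriv ((Scheme.Modules.pullback ((rX ≫ qX) ⁻¹ᵁ W).ι).obj L) := by
  haveI : IsProper rX := MorphismProperty.of_isPullback h.flip inferInstance
  haveI : Flat rX := MorphismProperty.of_isPullback h.flip inferInstance
  haveI : LocallyOfFinitePresentation rX := MorphismProperty.of_isPullback h.flip inferInstance
  set q := rX ≫ qX with hq
  haveI : IsProper q := inferInstanceAs (IsProper (rX ≫ qX))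
  haveI : Flat q := inferInstanceAs (Flat (rX ≫ qX))
  haveI : LocallyOfFinitePresentation q := inferInstanceAs (LocallyOfFinitePresentation (rX ≫ qX))
  have hAq : iA ≫ q = qY := by rw [hq, reassoc_of% hiA₁, ha, Category.comp_id]
  let σ : Z ⟶ B := b ≫ iA
  have hσ : σ ≫ q = 𝟙 Z := by rw [Category.assoc, hAq, hb]
  have hσL : IsTriv ((Scheme.Modules.pullback σ).obj L) := (isTriv_comp_iff _ _ _).1 (hA.pullback b)
  obtain ⟨Q, j, hj, hjfp, -, hu⟩ := RankLoc10.exists_desc_immersion (M2.isFinLocFree_of_isInvertible hL)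
    (univAppIso_comp (hOY.baseChange h.flip) hOX)
  have hfac : ∀ {T : Scheme.{u}} (t : T ⟶ Z), (∃ l, l ≫ j = t) ↔ Trv qX (rX := rX) L t := fun {T} t => by
    rw [hu T t]
    constructor
    · rintro ⟨N, -, ⟨e⟩⟩
      let s : T ⟶ pullback q t := pullback.lift (t ≫ σ) (𝟙 T) (by rw [Category.assoc, hσ, Category.comp_id, Category.id_comp])
      have hM : IsTriv ((Scheme.Modules.pullback s).obj ((Scheme.Modules.pullback (pullback.fst q t)).obj L)) :=
        (isTriv_comp_iff _ _ _).2 ((isTriv_of_eq (pullback.lift_fst _ _ _).symm)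
          ((isTriv_comp_iff _ _ _).1 (hσL.pullback t)))
      obtain ⟨eM⟩ := hM
      have eN : N ≅ Coh.structureModule T := ((Scheme.Modules.pullbackId T).app N).symm ≪≫
        ((Scheme.Modules.pullbackCongr (pullback.lift_snd (t ≫ σ) (𝟙 T) _)).app N).symm ≪≫
        ((Scheme.Modules.pullbackComp s (pullback.snd q t)).app N).symm ≪≫
        (Scheme.Modules.pullback s).mapIso e ≪≫ eM
      exact ⟨e.symm ≪≫ (Scheme.Modules.pullback _).mapIso eN ≪≫ Twist.pullbackUnitIso _⟩
    · rintro ⟨e⟩
      exact ⟨Coh.structureModule T, M2.isFinLocFree_of_isInvertible (PicLoc.isInvertible_structureModule T),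
        ⟨Twist.pullbackUnitIso _ ≪≫ e.symm⟩⟩
  haveI : IsOpenImmersion j := isOpenImmersion_of_smallLift j fun R _ J hJ hJle hJm t ht =>
    (hfac t).2 (trv_of_small_of_univAppIso qX qY h a ha b hb hOX hOY iA hiA₁ hiA₂ iB hiB₁ hiB₂ L hL hA hB R J hJ hJle hJm t
      ((hfac _).1 ht))
  have hmem : ∀ z, z ∈ j.opensRange ↔ IsTriv ((Scheme.Modules.pullback (q.fiberι z)).obj L) := fun z => by
    constructor
    · intro hz
      refine (hfac (Z.fromSpecResidueField z)).1 ⟨IsOpenImmersion.lift j _ ?_, IsOpenImmersion.lift_fac _ _ _⟩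
      rintro _ ⟨x, rfl⟩
      rw [Z.fromSpecResidueField_apply]
      exact hz
    · intro hz
      obtain ⟨l, hl⟩ := (hfac (Z.fromSpecResidueField z)).2 hz
      obtain ⟨x⟩ : Nonempty (Spec (Z.residueField z)) := inferInstanceAs (Nonempty (PrimeSpectrum (Z.residueField z)))
      exact ⟨l x, by rw [← Scheme.Hom.comp_apply, hl, Z.fromSpecResidueField_apply]⟩
  refine ⟨j.opensRange, fun z => (hmem z).2, ?_⟩
  have hW : Trv qX (rX := rX) L j.opensRange.ι :=
    (hfac _).1 ⟨IsOpenImmersion.lift j _ (by rw [Scheme.Opens.range_ι]; rfl), IsOpenImmersion.lift_fac _ _ _⟩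
  have hp := (isPullback_morphismRestrict q j.opensRange).flip
  exact (isTriv_of_eq hp.isoPullback_hom_fst) ((isTriv_comp_iff _ _ _).1 (hW.pullback hp.isoPullback.hom))

end Groth.Agent.Cube10
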